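import Groth.Agent.DSites.PB.Rpush
import Mathlib.Algebra.Category.Grp.AB
import Mathlib.CategoryTheory.Limits.Final

/-!
# Cohomology of a compact subset as a colimit over neighbourhoods
-/

universe u

set_option autoImplicit false
set_option linter.unusedVariables false
set_option backward.isDefEq.respectTransparency false
set_option backward.isDefEq.respectTransparency.types false

open CategoryTheory CategoryTheory.Limits Opposite TopologicalSpace Topology
open Groth.Agent.CohDesc82
open Groth.Agent.DSites.Desc (secX)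

namespace Groth.Agent.DSites.PB

noncomputable section

variable {X : TopCat.{u}} (S : Set X)

/-- The neighbourhoods. -/
abbrev nbP : ObjectProperty (Opens X)ᵒᵖ := fun U => S ⊆ (U.unop : Set X)

/-- The category of neighbourhoods. -/
abbrev Nb := (nbP S).FullSubcategory

instance nonempty_nb : Nonempty (Nb S) := ⟨⟨op ⊤, fun _ _ => trivial⟩⟩

instance isFiltered_nb : IsFiltered (Nb S) where
  cocone_objs U V := ⟨⟨op (U.obj.unop ⊓ V.obj.unop), fun x hx => ⟨U.property hx, V.property hx⟩⟩,
    ObjectProperty.homMk (homOfLE inf_le_left).op, ObjectProperty.homMk (homOfLE inf_le_right).op, trivial⟩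
  cocone_maps U V f g := ⟨V, 𝟙 V, by
    rw [Category.comp_id, Category.comp_id]
    exact ObjectProperty.hom_ext _ (Subsingleton.elim _ _)⟩

/-- The diagram of sections on the neighbourhoods. -/
abbrev dia (F : (Opens X)ᵒᵖ ⥤ AddCommGrpCat.{u}) : Nb S ⥤ AddCommGrpCat.{u} := ObjectProperty.ι (nbP S) ⋙ F

/-- Germs along the subset. -/
abbrev gC : ((Opens X)ᵒᵖ ⥤ AddCommGrpCat.{u}) ⥤ AddCommGrpCat.{u} :=
  (Functor.whiskeringLeft _ _ _).obj (ObjectProperty.ι (nbP S)) ⋙ colim

/-- Germs along the subset of a sheaf. -/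
abbrev gS : CohTop.Ab X ⥤ AddCommGrpCat.{u} :=
  sheafToPresheaf (Opens.grothendieckTopology X) AddCommGrpCat.{u} ⋙ gC S

/-- The germ along the subset. -/
def grS (F : CohTop.Ab X) (W : Opens X) (h : S ⊆ W) : F.obj.obj (op W) →+ (gS S).obj F :=
  (colimit.ι (dia S F.obj) ⟨op W, h⟩).hom

lemma grS_rs (F : CohTop.Ab X) {V U : Opens X} (h : V ≤ U) (hV : S ⊆ V) (s : F.obj.obj (op U)) :
    grS S F V hV (rs F h s) = grS S F U (hV.trans h) s :=
  ConcreteCategory.congr_hom (colimit.w (dia S F.obj)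
    (ObjectProperty.homMk (homOfLE h).op : (⟨op U, hV.trans h⟩ : Nb S) ⟶ ⟨op V, hV⟩)) s

lemma grS_natural {F G : CohTop.Ab X} (g : F ⟶ G) {U : Opens X} (hU : S ⊆ U) (s : F.obj.obj (op U)) :
    grS S G U hU (g.hom.app (op U) s) = (gS S).map g (grS S F U hU s) := by
  refine (ConcreteCategory.congr_hom (colimit.ι_map (Functor.whiskerLeft (ObjectProperty.ι (nbP S)) g.hom)
    (⟨op U, hU⟩ : Nb S)) s).symm

lemma exists_grS (F : CohTop.Ab X) {U : Opens X} (hU : S ⊆ U) (t : (gS S).obj F) :
    ∃ (V : Opens X) (_ : V ≤ U) (hV : S ⊆ V) (s : F.obj.obj (op V)), grS S F V hV s = t := by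
  obtain ⟨⟨⟨V⟩, hV⟩, s, rfl⟩ := Concrete.colimit_exists_rep (dia S F.obj) t
  exact ⟨V ⊓ U, inf_le_right, fun x hx => ⟨hV hx, hU hx⟩, rs F inf_le_left s,
    grS_rs S F inf_le_left _ s⟩

lemma grS_eq_zero (F : CohTop.Ab X) {U : Opens X} (hU : S ⊆ U) (s : F.obj.obj (op U))
    (h : grS S F U hU s = 0) : ∃ (V : Opens X) (h : V ≤ U), S ⊆ V ∧ rs F h s = 0 := by
  obtain ⟨⟨⟨V⟩, hV⟩, i, j, e⟩ := Concrete.colimit_exists_of_rep_eq (dia S F.obj) (i := ⟨op U, hU⟩) (j := ⟨op U, hU⟩)
    s 0 (h.trans (map_zero _).symm)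
  refine ⟨V, leOfHom i.hom.unop, hV, ?_⟩
  exact e.trans (map_zero _)

/-- Germs along the subset on complexes. -/
abbrev gsC : CochainComplex (CohTop.Ab X) ℤ ⥤ CochainComplex AddCommGrpCat.{u} ℤ :=
  (gS S).mapHomologicalComplex (ComplexShape.up ℤ)

variable {K M : CochainComplex (CohTop.Ab X) ℤ} (φ : K ⟶ M) (d : ℤ)
  (hK : ∀ n, TopCat.Sheaf.IsFlasque (K.X n)) (hM : ∀ n, TopCat.Sheaf.IsFlasque (M.X n))

/-- The germs of the family along the subset. -/
def germAlong : (biSh φ d hK hM).Germ (fun W => S ⊆ (W : Set X)) (Bi.cone ((gsC S).map φ) d) where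
  π := fun W hW r m => match r with
    | 0 => grS S (K.X (d + m)) W hW
    | 1 => grS S (M.X (d + m)) W hW
    | _ + 2 => 0
  π_h := fun W hW r m s => match r, s with
    | 0, s => grS_natural S (φ.f (d + m)) hW s
    | 1, _ => rfl
    | _ + 2, _ => rfl
  π_v := fun W hW r m s => match r, s with
    | 0, s => grS_natural S (K.d (d + m) (d + (m + 1 : ℕ))) hW s
    | 1, s => grS_natural S (M.d (d + m) (d + (m + 1 : ℕ))) hW s
    | _ + 2, _ => rfl
  π_res := fun {V U} h hV hU r m s => match r, s with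
    | 0, s => grS_rs S (K.X (d + m)) h hV s
    | 1, s => grS_rs S (M.X (d + m)) h hV s
    | _ + 2, _ => rfl
  surj := fun U hU r m t => match r, t with
    | 0, t => exists_grS S (K.X (d + m)) hU t
    | 1, t => exists_grS S (M.X (d + m)) hU t
    | _ + 2, _ => ⟨U, le_rfl, hU, PUnit.unit, rfl⟩
  kill := fun U hU r m s hs => match r, s, hs with
    | 0, s, hs => grS_eq_zero S (K.X (d + m)) hU s hs
    | 1, s, hs => grS_eq_zero S (M.X (d + m)) hU s hs
    | _ + 2, _, _ => ⟨U, le_rfl, hU, Subsingleton.elim (α := PUnit) _ _⟩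

include hK hM in
/-- Quasi-isomorphisms at the points give quasi-isomorphisms of germs along a separated compact subset. -/
theorem quasiIso_gS [K.IsStrictlyGE d] [M.IsStrictlyGE d] (hS : IsCompact S) (hsep : PtSep S S) (hq : ∀ x ∈ S, QuasiIso ((stC x).map φ)) :
    QuasiIso ((gsC S).map φ) :=
  (Bi.cone_exact_iff _ d).1
    ((germAlong S φ d hK hM).exact (U₀ := ⊤) (fun _ _ => trivial) (exactOn_set φ d hK hM hS hsep hq))

end

noncomputable section

variable {X Z : TopCat.{u}} (e : Z ⟶ X) {S : Set X} (hr : Set.range e ⊆ S)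

/-- The sections on the whole space as germs of a direct image. -/
def topGermS : secX (⊤ : Opens Z) ⟶ CohTop.push e ⋙ gS S where
  app L := colimit.ι (dia S ((CohTop.push e).obj L).obj) ⟨op ⊤, fun _ _ => trivial⟩
  naturality L L' g := (colimit.ι_map (Functor.whiskerLeft (ObjectProperty.ι (nbP S)) ((CohTop.push e).map g).hom)
    (⟨op ⊤, fun _ _ => trivial⟩ : Nb S)).symm

include hr in
theorem isIso_topGermS : IsIso (topGermS e (S := S)) := by
  have hle : ∀ V : Opens X, S ⊆ V → (Opens.map e).obj (⊤ : Opens X) ≤ (Opens.map e).obj V :=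
    fun V hV z _ => hV (hr ⟨z, rfl⟩)
  have : ∀ L, IsIso ((topGermS e (S := S)).app L) := fun L => by
    refine (ConcreteCategory.isIso_iff_bijective _).2 ⟨(injective_iff_map_eq_zero _).2 fun s hs => ?_, fun t => ?_⟩
    · obtain ⟨V, hV, hSV, hVs⟩ := grS_eq_zero S ((CohTop.push e).obj L) (U := ⊤) (fun _ _ => trivial) s hs
      have h2 : (Opens.map e).obj V ≤ (Opens.map e).obj (⊤ : Opens X) := fun _ _ => trivial
      have h3 := congrArg (rs L (hle V hSV)) hVs
      rw [map_zero] at h3
      exact ((rs_self L s).symm.trans (rs_rs L (hle V hSV) h2 s).symm).trans h3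
    · obtain ⟨V, hV, hSV, s, hs⟩ := exists_grS S ((CohTop.push e).obj L) (U := ⊤) (fun _ _ => trivial) t
      have h2 : (Opens.map e).obj V ≤ (Opens.map e).obj (⊤ : Opens X) := fun _ _ => trivial
      refine ⟨rs L (hle V hSV) s, ?_⟩
      refine Eq.trans ?_ hs
      refine (grS_rs S ((CohTop.push e).obj L) hV hSV (rs L (hle V hSV) s)).symm.trans ?_
      exact congrArg (grS S ((CohTop.push e).obj L) V hSV) ((rs_rs L h2 (hle V hSV) s).trans (rs_self L s))
  exact NatIso.isIso_of_isIso_app _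

/-- Cohomology of a compact separated subset is the colimit over its neighbourhoods. -/
theorem nonempty_colimit_nb_iso {X : TopCat.{u}} {S : Set X} (hS : IsCompact S) (hsep : PtSep S S) {Z : TopCat.{u}}
    (e : Z ⟶ X) (he : IsInducing e) (hr : Set.range e = S) (F : CohTop.Ab X) (p : ℕ) :
    Nonempty ((colimit (dia S ((Sheaf.cohomologyPresheafFunctor (Opens.grothendieckTopology X) p).obj F)) :
        AddCommGrpCat.{u}) ≅ AddCommGrpCat.of (CohTop.H ((CohTop.pull e).obj F) p)) := by
  let R := injectiveResolution F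
  let P := CohTop.pull e
  have : PreservesFiniteLimits P := SiteBase.preservesFiniteLimits_pull e
  have : PreservesColimitsOfSize.{0, 0} P := (adjE e).leftAdjoint_preservesColimits
  have : PreservesFiniteColimits P := PreservesColimitsOfSize.preservesFiniteColimits P
  have : P.Additive := Functor.additive_of_preserves_binary_products P
  let PK : CochainComplex (CohTop.Ab Z) ℤ := (P.mapHomologicalComplex (ComplexShape.up ℤ)).obj R.cochainComplex
  have : PK.IsStrictlyGE 0 := (CochainComplex.isStrictlyGE_iff _ _).2 fun m hm =>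
    P.map_isZero (R.cochainComplex.isZero_of_isStrictlyGE 0 m hm)
  obtain ⟨L, g, hg, hi, hb⟩ := CochainComplex.Plus.modelCategoryQuillen.exists_quasiIso_injective PK 0
  have hL : ∀ n, TopCat.Sheaf.IsFlasque (L.X n) := fun n => have := hi n; SiteBase.isFlasque_of_injective _
  let a : (CochainComplex.singleFunctor _ 0).obj (P.obj F) ⟶ L :=
    (HomologicalComplex.singleMapHomologicalComplex P (ComplexShape.up ℤ) 0).inv.app F ≫
      (P.mapHomologicalComplex _).map R.ι' ≫ g
  have : QuasiIso ((P.mapHomologicalComplex (ComplexShape.up ℤ)).map R.ι') := inferInstance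
  have : QuasiIso a := inferInstance
  obtain ⟨e₂⟩ := Desc.nonempty_homology_sections hL a p
  let M : CochainComplex (CohTop.Ab X) ℤ := ((CohTop.push e).mapHomologicalComplex (ComplexShape.up ℤ)).obj L
  have : M.IsStrictlyGE 0 := (CochainComplex.isStrictlyGE_iff _ _).2 fun m hm =>
    (CohTop.push e).map_isZero (L.isZero_of_isStrictlyGE 0 m hm)
  have hq : QuasiIso ((gsC S).map (adjMap e g)) := by
    refine quasiIso_gS S (adjMap e g) 0 (fun n => SiteBase.isFlasque_of_injective _) (fun n => ⟨fun {U V} i => by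
      have := hL n
      exact TopCat.Presheaf.IsFlasque.epi (F := (L.X n).obj) ((Opens.map e).op.map i)⟩) hS hsep fun x hx => ?_
    obtain ⟨z, rfl⟩ : x ∈ Set.range e := hr.symm ▸ hx
    exact quasiIso_adjMap e he g z
  obtain ⟨e₁⟩ := nonempty_rightDerived_homology (gS S) R p
  let τ : ((secX (⊤ : Opens Z)).mapHomologicalComplex (ComplexShape.up ℤ)).obj L ⟶ (gsC S).obj M :=
    { f := fun n => (topGermS e).app (L.X n)
      comm' := fun i j _ => ((topGermS e).naturality (L.d i j)).symm }
  have := isIso_topGermS e (S := S) hr.le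
  have : ∀ n, IsIso (τ.f n) := fun n => inferInstanceAs (IsIso ((topGermS e).app (L.X n)))
  have := HomologicalComplex.Hom.isIso_of_components τ
  have hqp : QuasiIsoAt ((gsC S).map (adjMap e g)) (p : ℤ) := hq.quasiIsoAt _
  let e₀ : (colimit (dia S ((Sheaf.cohomologyPresheafFunctor (Opens.grothendieckTopology X) p).obj F)) :
      AddCommGrpCat.{u}) ≅ ((gS S).rightDerived p).obj F :=
    (gC S).mapIso ((SiteBase.rightDerivedIsoCohomology p).app F).symm ≪≫
      ((SiteBase.rightDerivedCompIso (sheafToPresheaf _ _) (gC S) p).app F).symm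
  exact ⟨e₀ ≪≫ e₁ ≪≫ isoOfQuasiIsoAt ((gsC S).map (adjMap e g)) (p : ℤ) ≪≫
    ((HomologicalComplex.homologyFunctor _ _ (p : ℤ)).mapIso (asIso τ)).symm ≪≫ e₂⟩

end

end Groth.Agent.DSites.PB
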