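import Groth.Agent.DSites.PB.Map
import Mathlib.CategoryTheory.Abelian.RightDerived
import Mathlib.Algebra.Homology.HomologySequence
import Mathlib.Algebra.Homology.ShortComplex.ExactFunctor
import Mathlib.Algebra.Homology.HomologicalComplexAbelian

/-!
# Long exact Mayer-Vietoris sequences of right derived functors
-/

universe v v' u u'

set_option autoImplicit false
set_option backward.isDefEq.respectTransparency false
set_option backward.isDefEq.respectTransparency.types false

open CategoryTheory CategoryTheory.Limits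

namespace Groth.Agent.DSites.PB

noncomputable section

variable {A : Type u} [Category.{v} A] [Abelian A] [EnoughInjectives A]
  {B : Type u'} [Category.{v'} B] [Abelian B]

/-- Transport of exactness of two composable maps. -/
theorem exact_mk₂_of_iso {S : ShortComplex B} (hS : S.Exact) {P Q R : B} (f : P ⟶ Q) (g : Q ⟶ R)
    (e₁ : P ≅ S.X₁) (e₂ : Q ≅ S.X₂) (e₃ : R ≅ S.X₃) (h₁ : f ≫ e₂.hom = e₁.hom ≫ S.f)
    (h₂ : g ≫ e₃.hom = e₂.hom ≫ S.g) : (ComposableArrows.mk₂ f g).Exact := by
  have w : f ≫ g = 0 := by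
    rw [← cancel_mono e₃.hom, zero_comp, Category.assoc, h₂, reassoc_of% h₁, S.zero, comp_zero]
  exact (ShortComplex.exact_of_iso
    (ShortComplex.isoMk e₁.symm e₂.symm e₃.symm
      (by show e₁.inv ≫ f = S.f ≫ e₂.inv; rw [Iso.eq_comp_inv, Category.assoc, h₁, Iso.inv_hom_id_assoc])
      (by show e₂.inv ≫ g = S.g ≫ e₃.inv; rw [Iso.eq_comp_inv, Category.assoc, h₂, Iso.inv_hom_id_assoc]) :
        S ≅ ShortComplex.mk f g w) hS).exact_toComposableArrows

variable {F G₁ G₂ H : A ⥤ B} [F.Additive] [G₁.Additive] [G₂.Additive] [H.Additive]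

/-- The long exact sequence of a Mayer-Vietoris square of functors. -/
theorem exists_mayerVietoris (α₁ : F ⟶ G₁) (α₂ : F ⟶ G₂) (β₁ : G₁ ⟶ H) (β₂ : G₂ ⟶ H)
    (w : ∀ I : A, biprod.lift (α₁.app I) (α₂.app I) ≫ biprod.desc (β₁.app I) (-β₂.app I) = 0)
    (hS : ∀ I : A, Injective I → (ShortComplex.mk _ _ (w I)).ShortExact) (X : A) :
    ∃ δ : ∀ n : ℕ, (H.rightDerived n).obj X ⟶ (F.rightDerived (n + 1)).obj X,
      Mono (biprod.lift ((NatTrans.rightDerived α₁ 0).app X) ((NatTrans.rightDerived α₂ 0).app X)) ∧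
      ∀ n : ℕ,
        (ComposableArrows.mk₂
          (biprod.lift ((NatTrans.rightDerived α₁ n).app X) ((NatTrans.rightDerived α₂ n).app X))
          (biprod.desc ((NatTrans.rightDerived β₁ n).app X) (-(NatTrans.rightDerived β₂ n).app X))).Exact ∧
        (ComposableArrows.mk₂
          (biprod.desc ((NatTrans.rightDerived β₁ n).app X) (-(NatTrans.rightDerived β₂ n).app X)) (δ n)).Exact ∧
        (ComposableArrows.mk₂ (δ n)
          (biprod.lift ((NatTrans.rightDerived α₁ (n + 1)).app X) ((NatTrans.rightDerived α₂ (n + 1)).app X))).Exact := by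
  let R := injectiveResolution X
  let c := ComplexShape.up ℕ
  let C₁ := (G₁.mapHomologicalComplex c).obj R.cocomplex
  let C₂ := (G₂.mapHomologicalComplex c).obj R.cocomplex
  let a₁ := (NatTrans.mapHomologicalComplex α₁ c).app R.cocomplex
  let a₂ := (NatTrans.mapHomologicalComplex α₂ c).app R.cocomplex
  let b₁ := (NatTrans.mapHomologicalComplex β₁ c).app R.cocomplex
  let b₂ := (NatTrans.mapHomologicalComplex β₂ c).app R.cocomplex
  have wC : biprod.lift a₁ a₂ ≫ biprod.desc b₁ (-b₂) = 0 := by
    rw [biprod.lift_desc]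
    refine HomologicalComplex.hom_ext _ _ fun m => ?_
    have := w (R.cocomplex.X m)
    rw [biprod.lift_desc] at this
    exact this
  let S : ShortComplex (CochainComplex B ℕ) := ShortComplex.mk (biprod.lift a₁ a₂) (biprod.desc b₁ (-b₂)) wC
  have hSS : S.ShortExact := HomologicalComplex.shortExact_of_degreewise_shortExact S fun m => by
    refine ShortComplex.shortExact_of_iso ?_ (hS (R.cocomplex.X m) inferInstance)
    refine ShortComplex.isoMk (Iso.refl _) ((HomologicalComplex.eval B c m).mapBiprod C₁ C₂).symm (Iso.refl _) ?_ ?_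
    · show 𝟙 _ ≫ (HomologicalComplex.eval B c m).map (biprod.lift a₁ a₂) =
        biprod.lift ((HomologicalComplex.eval B c m).map a₁) ((HomologicalComplex.eval B c m).map a₂) ≫
          ((HomologicalComplex.eval B c m).mapBiprod C₁ C₂).inv
      rw [Category.id_comp, biprod.lift_mapBiprod]
    · show ((HomologicalComplex.eval B c m).mapBiprod C₁ C₂).inv ≫ (HomologicalComplex.eval B c m).map (biprod.desc b₁ (-b₂)) =
        biprod.desc ((HomologicalComplex.eval B c m).map b₁) ((HomologicalComplex.eval B c m).map (-b₂)) ≫ 𝟙 _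
      rw [Category.comp_id, biprod.mapBiprod_inv_map_desc]
  let eF := fun n => R.isoRightDerivedObj F n
  let eH := fun n => R.isoRightDerivedObj H n
  have hbp : ∀ n, PreservesBinaryBiproduct C₁ C₂ (HomologicalComplex.homologyFunctor B c n) := fun n =>
    (preservesBinaryBiproducts_of_preservesBiproducts (HomologicalComplex.homologyFunctor B c n)).preserves
  let eG := fun n => biprod.mapIso (R.isoRightDerivedObj G₁ n) (R.isoRightDerivedObj G₂ n) ≪≫
    ((HomologicalComplex.homologyFunctor B c n).mapBiprod C₁ C₂).symm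
  have hl : ∀ n, biprod.lift ((NatTrans.rightDerived α₁ n).app X) ((NatTrans.rightDerived α₂ n).app X) ≫ (eG n).hom =
      (eF n).hom ≫ HomologicalComplex.homologyMap S.f n := fun n => by
    rw [R.rightDerived_app_eq α₁, R.rightDerived_app_eq α₂]
    show biprod.lift ((R.isoRightDerivedObj F n).hom ≫ (HomologicalComplex.homologyFunctor B c n).map a₁ ≫
          (R.isoRightDerivedObj G₁ n).inv)
        ((R.isoRightDerivedObj F n).hom ≫ (HomologicalComplex.homologyFunctor B c n).map a₂ ≫
          (R.isoRightDerivedObj G₂ n).inv) ≫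
        biprod.map (R.isoRightDerivedObj G₁ n).hom (R.isoRightDerivedObj G₂ n).hom ≫
          ((HomologicalComplex.homologyFunctor B c n).mapBiprod C₁ C₂).inv =
      (R.isoRightDerivedObj F n).hom ≫ (HomologicalComplex.homologyFunctor B c n).map (biprod.lift a₁ a₂)
    rw [← biprod.lift_mapBiprod (HomologicalComplex.homologyFunctor B c n) C₁ C₂ a₁ a₂]
    simp only [← Category.assoc]
    refine congrArg (fun t => t ≫ ((HomologicalComplex.homologyFunctor B c n).mapBiprod C₁ C₂).inv) ?_
    ext <;> simp <;> first | exact (biprod.lift_fst _ _).symm | exact (biprod.lift_snd _ _).symm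
  have hd : ∀ n, biprod.desc ((NatTrans.rightDerived β₁ n).app X) (-(NatTrans.rightDerived β₂ n).app X) ≫ (eH n).hom =
      (eG n).hom ≫ HomologicalComplex.homologyMap S.g n := fun n => by
    rw [R.rightDerived_app_eq β₁, R.rightDerived_app_eq β₂]
    show biprod.desc ((R.isoRightDerivedObj G₁ n).hom ≫ (HomologicalComplex.homologyFunctor B c n).map b₁ ≫
          (R.isoRightDerivedObj H n).inv)
        (-((R.isoRightDerivedObj G₂ n).hom ≫ (HomologicalComplex.homologyFunctor B c n).map b₂ ≫
          (R.isoRightDerivedObj H n).inv)) ≫ (R.isoRightDerivedObj H n).hom =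
      (biprod.map (R.isoRightDerivedObj G₁ n).hom (R.isoRightDerivedObj G₂ n).hom ≫
          ((HomologicalComplex.homologyFunctor B c n).mapBiprod C₁ C₂).inv) ≫
        (HomologicalComplex.homologyFunctor B c n).map (biprod.desc b₁ (-b₂))
    rw [Category.assoc, biprod.mapBiprod_inv_map_desc (HomologicalComplex.homologyFunctor B c n) C₁ C₂ b₁ (-b₂)]
    apply biprod.hom_ext' <;> simp
  refine ⟨fun n => (eH n).hom ≫ hSS.δ n (n + 1) (by simp) ≫ (eF (n + 1)).inv, ?_, fun n => ⟨?_, ?_, ?_⟩⟩
  · have : Mono (HomologicalComplex.homologyMap S.f 0) := by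
      have := hSS.mono_f
      have hc : Mono (HomologicalComplex.cyclesMap S.f 0) := ⟨fun {Z} g h e => by
        rw [← cancel_mono (S.X₁.iCycles 0), ← cancel_mono (S.f.f 0), Category.assoc, Category.assoc,
          ← HomologicalComplex.cyclesMap_i, reassoc_of% e]⟩
      have := S.X₁.isIso_homologyπ 0 0 (by simp) (by simp)
      have := S.X₂.isIso_homologyπ 0 0 (by simp) (by simp)
      have hn := HomologicalComplex.homologyπ_naturality S.f 0
      rw [show HomologicalComplex.homologyMap S.f 0 = inv (S.X₁.homologyπ 0) ≫ HomologicalComplex.cyclesMap S.f 0 ≫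
        S.X₂.homologyπ 0 by rw [IsIso.eq_inv_comp]; exact hn]
      infer_instance
    have h : Mono (biprod.lift ((NatTrans.rightDerived α₁ 0).app X) ((NatTrans.rightDerived α₂ 0).app X) ≫ (eG 0).hom) := by
      rw [hl 0]; infer_instance
    exact mono_of_mono _ (eG 0).hom
  · exact exact_mk₂_of_iso (hSS.homology_exact₂ n) _ _ (eF n) (eG n) (eH n) (hl n) (hd n)
  · exact exact_mk₂_of_iso (hSS.homology_exact₃ n (n + 1) (by simp)) _ _ (eG n) (eH n) (eF (n + 1)) (hd n) (by simp)
  · exact exact_mk₂_of_iso (hSS.homology_exact₁ n (n + 1) (by simp)) _ _ (eH n) (eF (n + 1)) (eG (n + 1)) (by simp)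
      (hl (n + 1))

end

end Groth.Agent.DSites.PB
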