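import Groth.Agent.DSites.PB.Map
import Mathlib.Algebra.Homology.DerivedCategory.Ext.ExactSequences
import Mathlib.Topology.Separation.Profinite

/-!
# Acyclicity of profinite spaces
-/

universe u

set_option autoImplicit false
set_option backward.isDefEq.respectTransparency false
set_option backward.isDefEq.respectTransparency.types false

open CategoryTheory CategoryTheory.Limits Opposite TopologicalSpace Topology

namespace Groth.Agent.DSites.PB

noncomputable section

variable {X : TopCat.{u}}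

/-- Local lifts along an epimorphism. -/
theorem exists_local_lift {G Q : CohTop.Ab X} (π : G ⟶ Q) [Epi π] {U : Opens X} (t : Q.obj.obj (op U))
    {x : X} (hx : x ∈ U) :
    ∃ (V : Opens X) (h : V ≤ U), x ∈ V ∧ ∃ s, π.hom.app (op V) s = rs Q h t := by
  have hy := SiteBase.preservesFiniteColimits_stalk (X := X) x
  have : PreservesFiniteColimits (ClosedEmb.stalkF x) := hy
  have he : Epi ((ClosedEmb.stalkF x).map π) := inferInstance
  obtain ⟨a, ha⟩ := (AddCommGrpCat.epi_iff_surjective _).1 he (gr Q U x hx t)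
  obtain ⟨V, hV, hxV, s, rfl⟩ := exists_gr G hx a
  rw [← gr_natural π hxV s, ← gr_rs Q hV hxV t] at ha
  obtain ⟨W, hW, hxW, e⟩ := gr_eq_zero Q hxV (π.hom.app (op V) s - rs Q hV t) (by rw [map_sub, ha, sub_self])
  rw [map_sub, sub_eq_zero, rs_rs] at e
  exact ⟨W, hW.trans hV, hxW, rs G hW s, (rs_natural π hW s).symm.trans e⟩

/-- Epimorphisms are surjective on global sections of a profinite space. -/
theorem sections_surjective_profinite [CompactSpace X] [T2Space X] [TotallyDisconnectedSpace X]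
    {G Q : CohTop.Ab X} (π : G ⟶ Q) [Epi π] : Function.Surjective (π.hom.app (op (⊤ : Opens X))).hom := by
  intro t
  let P : Set X → Prop := fun A => ∃ (V : Opens X) (s : G.obj.obj (op V)),
    (V : Set X) = A ∧ IsClosed A ∧ π.hom.app (op V) s = rs Q le_top t
  have hbot : P ∅ := ⟨⊥, 0, rfl, isClosed_empty, by
    refine (map_zero _).trans ?_
    exact TopCat.Sheaf.eq_of_locally_eq' Q (fun c : PEmpty.{u + 1} => c.elim) ⊥ (fun c => c.elim) bot_le _ _
      fun c => c.elim⟩
  have hsup : ∀ A B, P A → P B → P (A ∪ B) := by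
    rintro A B ⟨V, s, rfl, hA, hs⟩ ⟨W, w, rfl, hB, hw⟩
    let W' : Opens X := ⟨(W : Set X) \ (V : Set X), W.2.sdiff hA⟩
    have hW' : W' ≤ W := fun x hx => hx.1
    let O : ULift.{u} Bool → Opens X := fun b => cond b.down V W'
    let σ : ∀ b, G.obj.obj (op (O b)) := fun b => match b with
      | ⟨true⟩ => s
      | ⟨false⟩ => rs G hW' w
    have hO : ∀ b, O b ≤ V ⊔ W := by
      rintro ⟨_ | _⟩
      · exact fun x hx => Or.inr hx.1
      · exact le_sup_left
    have hc : V ⊔ W ≤ iSup O := fun x hx => by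
      refine Opens.mem_iSup.2 ?_
      by_cases hxV : x ∈ V
      · exact ⟨⟨true⟩, hxV⟩
      · exact ⟨⟨false⟩, ⟨hx.resolve_left hxV, hxV⟩⟩
    have hd : V ⊓ W' = ⊥ := Opens.ext (Set.eq_empty_iff_forall_notMem.2 fun x hx => hx.2.2 hx.1)
    have hd' : W' ⊓ V = ⊥ := (inf_comm W' V).trans hd
    have h0 : ∀ (O' : Opens X), O' = ⊥ → ∀ a b : G.obj.obj (op O'), a = b := fun O' e a b => by
      subst e
      exact TopCat.Sheaf.eq_of_locally_eq' G (fun c : PEmpty.{u + 1} => c.elim) ⊥ (fun c => c.elim) bot_le _ _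
        fun c => c.elim
    obtain ⟨g, hg, -⟩ := glue_rs G O (V ⊔ W) hO hc σ (by
      rintro ⟨_ | _⟩ ⟨_ | _⟩
      · rfl
      · exact h0 _ hd' _ _
      · exact h0 _ hd _ _
      · rfl)
    refine ⟨V ⊔ W, g, rfl, hA.union hB, ?_⟩
    refine TopCat.Sheaf.eq_of_locally_eq' Q O (V ⊔ W) (fun b => homOfLE (hO b)) hc _ _ fun b => ?_
    refine (rs_natural π (hO b) g).trans ?_
    rw [hg b]
    refine Eq.trans ?_ (rs_rs Q (hO b) le_top t).symm
    rcases b with ⟨_ | _⟩
    · refine (rs_natural π hW' w).symm.trans ?_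
      rw [hw, rs_rs]
      rfl
    · exact hs
  have hloc : ∀ x : X, ∃ A : Set X, A ∈ 𝓝 x ∧ P A := fun x => by
    obtain ⟨V, hV, hxV, s, hs⟩ := exists_local_lift π (U := ⊤) t (x := x) trivial
    obtain ⟨A, hA, hxA, hAV⟩ := compact_exists_isClopen_in_isOpen V.2 hxV
    refine ⟨A, hA.2.mem_nhds hxA, ⟨A, hA.2⟩, rs G hAV s, rfl, hA.1, ?_⟩
    refine (rs_natural π (show (⟨A, hA.2⟩ : Opens X) ≤ V from hAV) s).symm.trans ?_
    rw [hs, rs_rs]
  choose A hAn hAP using hloc
  obtain ⟨T, hT⟩ := isCompact_univ.elim_nhds_subcover A fun x _ => hAn x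
  have hU : P (⋃ x ∈ T, A x) := by
    classical
    clear hT
    induction T using Finset.induction_on with
    | empty => simpa using hbot
    | @insert a T ha ih =>
      rw [Finset.set_biUnion_insert]
      exact hsup _ _ (hAP a) ih
  obtain ⟨V, s, hV, -, hs⟩ := hU
  have hV' : (⊤ : Opens X) ≤ V := fun x _ => by
    have := hT.2 (Set.mem_univ x)
    rwa [← hV] at this
  refine ⟨rs G hV' s, ?_⟩
  refine (rs_natural π hV' s).symm.trans ?_
  rw [hs, rs_rs, rs_self]

/-- Profinite spaces are acyclic. -/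
theorem subsingleton_H_profinite [CompactSpace X] [T2Space X] [TotallyDisconnectedSpace X] :
    ∀ (p : ℕ) (F : CohTop.Ab X), Subsingleton (CohTop.H F (p + 1))
  | p, F => by
    let T : ShortComplex (CohTop.Ab X) := ShortComplex.mk (Injective.ι F) (cokernel.π (Injective.ι F)) (cokernel.condition _)
    have hT : T.ShortExact :=
      { exact := ShortComplex.exact_of_g_is_cokernel _ (cokernelIsCokernel _) }
    have hfl : TopCat.Sheaf.IsFlasque T.X₂ := SiteBase.isFlasque_of_injective (Injective.under F)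
    refine subsingleton_of_forall_eq 0 fun x => ?_
    have h2 : Subsingleton (CohTop.H T.X₂ (p + 1)) := SiteBase.subsingleton_H_of_isFlasque _ p
    obtain ⟨y, rfl⟩ := Abelian.Ext.covariant_sequence_exact₁ _ hT x (h2.elim _ _) (n₀ := p) rfl
    cases p with
    | succ p =>
      rw [(subsingleton_H_profinite p T.X₃).elim y 0]
      exact Abelian.Ext.zero_comp _ _ _ _ _
    | zero =>
      have : Epi T.g := hT.epi_g
      obtain ⟨z, hz⟩ := sections_surjective_profinite T.g (Sheaf.H.equiv₀ T.X₃ isTerminalTop y)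
      have hy : y = Sheaf.H.map T.g 0 ((Sheaf.H.equiv₀ T.X₂ isTerminalTop).symm z) := by
        refine (Sheaf.H.equiv₀ T.X₃ isTerminalTop).injective ?_
        rw [← Sheaf.H.equiv₀_naturality, AddEquiv.apply_symm_apply]
        exact hz.symm
      rw [hy]
      show ((Sheaf.H.equiv₀ T.X₂ isTerminalTop).symm z |>.comp (Abelian.Ext.mk₀ T.g) (add_zero 0)).comp hT.extClass _ = 0
      simp

end

end Groth.Agent.DSites.PB
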