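import Groth.Agent.DSites.PB.BaseChange
import Groth.Agent.SiteBase.OpenRestr

/-!
# Higher direct images and restriction to an open of the base
-/

universe u

set_option autoImplicit false
set_option backward.isDefEq.respectTransparency false
set_option backward.isDefEq.respectTransparency.types false

open CategoryTheory CategoryTheory.Limits Opposite TopologicalSpace Topology

attribute [local instance] HasDerivedCategory.standard

namespace Groth.Agent.DSites.PB

noncomputable section

variable {X Y : TopCat.{u}}

/-- The restriction is the inverse image. -/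
def restrPullIso (U : Opens X) : CohTop.pull (TopCat.ofHom ⟨Subtype.val, continuous_subtype_val⟩ : TopCat.of U ⟶ X) ≅
    CohTop.restrFunctor U :=
  Topology.IsOpenEmbedding.sheafPullbackIso (f := (TopCat.ofHom ⟨Subtype.val, continuous_subtype_val⟩ : TopCat.of U ⟶ X))
    AddCommGrpCat.{u} U.isOpenEmbedding

instance preservesFiniteLimits_restrFunctor (U : Opens X) : PreservesFiniteLimits (CohTop.restrFunctor U) :=
  have := SiteBase.preservesFiniteLimits_pull (TopCat.ofHom ⟨Subtype.val, continuous_subtype_val⟩ : TopCat.of U ⟶ X)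
  preservesFiniteLimits_of_natIso (restrPullIso U)

instance preservesFiniteColimits_restrFunctor (U : Opens X) : PreservesFiniteColimits (CohTop.restrFunctor U) :=
  have : PreservesColimitsOfSize.{0, 0}
      (CohTop.pull (TopCat.ofHom ⟨Subtype.val, continuous_subtype_val⟩ : TopCat.of U ⟶ X)) :=
    (adjE _).leftAdjoint_preservesColimits
  have := PreservesColimitsOfSize.preservesFiniteColimits
    (CohTop.pull (TopCat.ofHom ⟨Subtype.val, continuous_subtype_val⟩ : TopCat.of U ⟶ X))
  preservesFiniteColimits_of_natIso (restrPullIso U)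

/-- Direct images are additive. -/
theorem additive_push {A B : TopCat.{u}} (g : A ⟶ B) : (CohTop.push g).Additive := inferInstance

/-- The map over an open of the base. -/
def overMap (f : X ⟶ Y) (V : Opens Y) : TopCat.of ((Opens.map f).obj V) ⟶ TopCat.of V :=
  TopCat.ofHom ⟨(V : Set Y).restrictPreimage f, f.hom.continuous.restrictPreimage⟩

lemma image_over (f : X ⟶ Y) (V : Opens Y) (W : Opens (TopCat.of V)) :
    (Opens.map f).obj (V.isOpenEmbedding.isOpenMap.functor.obj W) =
      ((Opens.map f).obj V).isOpenEmbedding.isOpenMap.functor.obj ((Opens.map (overMap f V)).obj W) := by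
  refine Opens.ext (Set.ext fun x => ?_)
  constructor
  · rintro ⟨v, hv, hvx⟩
    have hvx' : v.1 = f x := hvx
    have hx : x ∈ (Opens.map f).obj V := by show f x ∈ V; exact hvx' ▸ v.2
    refine ⟨⟨x, hx⟩, ?_, rfl⟩
    show overMap f V ⟨x, hx⟩ ∈ W
    rw [show overMap f V ⟨x, hx⟩ = v from Subtype.ext hvx'.symm]
    exact hv
  · rintro ⟨u, hu, rfl⟩
    exact ⟨overMap f V u, hu, rfl⟩

/-- Direct image then restriction. -/
def pushRestrIso (f : X ⟶ Y) (V : Opens Y) :
    CohTop.push f ⋙ CohTop.restrFunctor V ≅
      CohTop.restrFunctor ((Opens.map f).obj V) ⋙ CohTop.push (overMap f V) :=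
  NatIso.ofComponents (fun F => (fullyFaithfulSheafToPresheaf _ _).preimageIso
    (NatIso.ofComponents (fun W => F.obj.mapIso (eqToIso (image_over f V W.unop)).op.symm) fun {W W'} i =>
      ((F.obj.map_comp _ _).symm.trans (congrArg F.obj.map (Subsingleton.elim _ _))).trans (F.obj.map_comp _ _)))
    fun {F G} φ => CategoryTheory.Sheaf.hom_ext (NatTrans.ext (funext fun W =>
      (φ.hom.naturality (eqToIso (image_over f V W.unop)).op.inv).symm))

/-- Higher direct images commute with restriction to an open of the base. -/
theorem nonempty_restr_Rpush (f : X ⟶ Y) (F : CohTop.Ab X) (V : Opens Y) (p : ℕ) :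
    Nonempty (CohTop.restr ((CohTop.Rpush f p).obj F) V ≅
      (CohTop.Rpush (overMap f V) p).obj (CohTop.restr F ((Opens.map f).obj V))) := by
  let U := (Opens.map f).obj V
  let P := CohTop.restrFunctor U
  have : (CohTop.push (overMap f V)).Additive := additive_push (overMap f V)
  let R := injectiveResolution F
  let R' := injectiveResolution (P.obj F)
  have : R'.cochainComplex.IsKInjective := CochainComplex.isKInjective_of_injective R'.cochainComplex 0
  let J : CochainComplex (CohTop.Ab (TopCat.of U)) ℤ := (P.mapHomologicalComplex (ComplexShape.up ℤ)).obj R.cochainComplex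
  have : J.IsStrictlyGE 0 := (CochainComplex.isStrictlyGE_iff _ _).2 fun m hm =>
    P.map_isZero (R.cochainComplex.isZero_of_isStrictlyGE 0 m hm)
  let a : (CochainComplex.singleFunctor _ 0).obj (P.obj F) ⟶ J :=
    (HomologicalComplex.singleMapHomologicalComplex P (ComplexShape.up ℤ) 0).inv.app F ≫
      (P.mapHomologicalComplex _).map R.ι'
  have : QuasiIso ((P.mapHomologicalComplex (ComplexShape.up ℤ)).map R.ι') := inferInstance
  have : QuasiIso a := inferInstance
  obtain ⟨c, hc⟩ := CohDesc82.Q_map_surjective J R'.cochainComplex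
    (inv (DerivedCategory.Q.map a) ≫ DerivedCategory.Q.map R'.ι')
  have : QuasiIso c := by
    rw [← DerivedCategory.isIso_Q_map_iff_quasiIso, hc]
    infer_instance
  have hJ : ∀ n, TopCat.Sheaf.IsFlasque (J.X n) := fun n => by
    have := SiteBase.isFlasque_of_injective (R.cochainComplex.X n)
    exact SiteBase.isFlasque_restr U (R.cochainComplex.X n)
  have hcq := quasiIso_push c (overMap f V) hJ (fun n => SiteBase.isFlasque_of_injective (R'.cochainComplex.X n))
  have hcp : QuasiIsoAt (((CohTop.push (overMap f V)).mapHomologicalComplex (ComplexShape.up ℤ)).map c) (p : ℤ) :=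
    hcq.quasiIsoAt _
  obtain ⟨e₁⟩ := nonempty_rightDerived_extend (CohTop.push f ⋙ CohTop.restrFunctor V) R p
  obtain ⟨e₂⟩ := nonempty_rightDerived_extend (CohTop.push (overMap f V)) R' p
  exact ⟨((SiteBase.rightDerivedCompIso (CohTop.push f) (CohTop.restrFunctor V) p).app F).symm ≪≫ e₁ ≪≫
    (HomologicalComplex.homologyFunctor _ _ (p : ℤ)).mapIso
      ((NatIso.mapHomologicalComplex (pushRestrIso f V) _).app R.cochainComplex) ≪≫
    isoOfQuasiIsoAt (((CohTop.push (overMap f V)).mapHomologicalComplex (ComplexShape.up ℤ)).map c) (p : ℤ) ≪≫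
    e₂.symm⟩

end

end Groth.Agent.DSites.PB
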