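import Groth.Agent.DSites.PB.MV
import Groth.Agent.DSites.PB.RestrictBase
import Groth.Prelude.Def_CohCx

/-!
# The relative Mayer-Vietoris sequence
-/

universe u

set_option autoImplicit false
set_option backward.isDefEq.respectTransparency false
set_option backward.isDefEq.respectTransparency.types false

open CategoryTheory CategoryTheory.Limits Opposite TopologicalSpace

namespace Groth.Agent.DSites.PB

noncomputable section

variable {X Y : TopCat.{u}} (f : X ⟶ Y)

/-- The functor `F ↦ (f|_U)_* (F|_U)`. -/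
abbrev pushOn (U : Opens X) : CohTop.Ab X ⥤ CohTop.Ab Y :=
  CohTop.restrFunctor U ⋙ CohTop.push (CohCx.incl U ≫ f)

theorem additive_pushOn (U : Opens X) : (pushOn f U).Additive :=
  have := additive_push (CohCx.incl U ≫ f)
  inferInstance

/-- The open subset of `X` on which `(pushOn f U).obj F` takes its sections over `W`. -/
abbrev onOpen (U : Opens X) (W : Opens Y) : Opens X :=
  U.isOpenEmbedding.isOpenMap.functor.obj ((Opens.map (CohCx.incl U ≫ f)).obj W)

lemma mem_onOpen {U : Opens X} {W : Opens Y} {x : X} : x ∈ onOpen f U W ↔ x ∈ U ∧ f x ∈ W :=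
  ⟨fun ⟨y, hy, e⟩ => e ▸ ⟨y.2, hy⟩, fun h => ⟨⟨x, h.1⟩, h.2, rfl⟩⟩

lemma onOpen_le (U : Opens X) (W : Opens Y) : onOpen f U W ≤ (Opens.map f).obj W :=
  fun _ hx => ((mem_onOpen f).1 hx).2

lemma onOpen_mono {U V : Opens X} (h : V ≤ U) (W : Opens Y) : onOpen f V W ≤ onOpen f U W :=
  fun _ hx => (mem_onOpen f).2 ⟨h ((mem_onOpen f).1 hx).1, ((mem_onOpen f).1 hx).2⟩

variable (U V : Opens X)

/-- The first map of the Mayer-Vietoris sequence. -/
def mvF (F : CohTop.Ab X) : (CohTop.push f).obj F ⟶ (pushOn f U).obj F ⊞ (pushOn f V).obj F :=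
  biprod.lift ((CohCx.pushToRestrPush f U).app F) ((CohCx.pushToRestrPush f V).app F)

/-- The second map of the Mayer-Vietoris sequence. -/
def mvG (F : CohTop.Ab X) : (pushOn f U).obj F ⊞ (pushOn f V).obj F ⟶ (pushOn f (U ⊓ V)).obj F :=
  biprod.desc ((CohCx.restrPushToRestrPush f (inf_le_left : U ⊓ V ≤ U)).app F)
    (-(CohCx.restrPushToRestrPush f (inf_le_right : U ⊓ V ≤ V)).app F)

/-- Sections of the biproduct over an open. -/
abbrev mvMid (F : CohTop.Ab X) (W : Opens Y) : Type u :=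
  ((pushOn f U).obj F ⊞ (pushOn f V).obj F).obj.obj (op W)

variable {U V} in
/-- The first component. -/
abbrev pr₁ {F : CohTop.Ab X} {W : Opens Y} (t : mvMid f U V F W) : F.obj.obj (op (onOpen f U W)) :=
  (biprod.fst : (pushOn f U).obj F ⊞ (pushOn f V).obj F ⟶ _).hom.app (op W) t

variable {U V} in
/-- The second component. -/
abbrev pr₂ {F : CohTop.Ab X} {W : Opens Y} (t : mvMid f U V F W) : F.obj.obj (op (onOpen f V W)) :=
  (biprod.snd : (pushOn f U).obj F ⊞ (pushOn f V).obj F ⟶ _).hom.app (op W) t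

lemma app_comp {A B D : CohTop.Ab Y} (a : A ⟶ B) (b : B ⟶ D) (W : Opens Y) (t : A.obj.obj (op W)) :
    (a ≫ b).hom.app (op W) t = b.hom.app (op W) (a.hom.app (op W) t) := rfl

lemma app_congr {A B : CohTop.Ab Y} {a b : A ⟶ B} (h : a = b) (W : Opens Y) (t : A.obj.obj (op W)) :
    a.hom.app (op W) t = b.hom.app (op W) t := h ▸ rfl

lemma app_add {A B : CohTop.Ab Y} (a b : A ⟶ B) (W : Opens Y) (t : A.obj.obj (op W)) :
    (a + b).hom.app (op W) t = a.hom.app (op W) t + b.hom.app (op W) t := rfl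

lemma app_neg {A B : CohTop.Ab Y} (a : A ⟶ B) (W : Opens Y) (t : A.obj.obj (op W)) :
    (-a).hom.app (op W) t = -(a.hom.app (op W) t) := rfl

lemma mid_ext {F : CohTop.Ab X} {W : Opens Y} {t t' : mvMid f U V F W} (h₁ : pr₁ f t = pr₁ f t')
    (h₂ : pr₂ f t = pr₂ f t') : t = t' := by
  have e : ∀ s : mvMid f U V F W, s =
      (biprod.inl : (pushOn f U).obj F ⟶ (pushOn f U).obj F ⊞ (pushOn f V).obj F).hom.app (op W) (pr₁ f s) +
      (biprod.inr : (pushOn f V).obj F ⟶ (pushOn f U).obj F ⊞ (pushOn f V).obj F).hom.app (op W) (pr₂ f s) :=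
    fun s => ((app_add _ _ W s).symm.trans (app_congr biprod.total W s)).symm
  rw [e t, e t', h₁, h₂]

lemma pr₁_mvF (F : CohTop.Ab X) (W : Opens Y) (s : F.obj.obj (op ((Opens.map f).obj W))) :
    pr₁ f ((mvF f U V F).hom.app (op W) s) = rs F (onOpen_le f U W) s :=
  app_congr (a := mvF f U V F ≫ biprod.fst) (biprod.lift_fst _ _) W s

lemma pr₂_mvF (F : CohTop.Ab X) (W : Opens Y) (s : F.obj.obj (op ((Opens.map f).obj W))) :
    pr₂ f ((mvF f U V F).hom.app (op W) s) = rs F (onOpen_le f V W) s :=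
  app_congr (a := mvF f U V F ≫ biprod.snd) (biprod.lift_snd _ _) W s

lemma mvG_app (F : CohTop.Ab X) (W : Opens Y) (t : mvMid f U V F W) :
    (mvG f U V F).hom.app (op W) t = rs F (onOpen_mono f (inf_le_left : U ⊓ V ≤ U) W) (pr₁ f t) -
      rs F (onOpen_mono f (inf_le_right : U ⊓ V ≤ V) W) (pr₂ f t) := by
  rw [sub_eq_add_neg]
  exact app_congr (biprod.desc_eq (f := (CohCx.restrPushToRestrPush f (inf_le_left : U ⊓ V ≤ U)).app F)
    (g := -(CohCx.restrPushToRestrPush f (inf_le_right : U ⊓ V ≤ V)).app F)) W t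

theorem mvF_mvG (F : CohTop.Ab X) : mvF f U V F ≫ mvG f U V F = 0 := by
  ext : 2
  funext W
  ext s
  show (mvG f U V F).hom.app (op W.unop) ((mvF f U V F).hom.app (op W.unop) s) = 0
  rw [mvG_app, pr₁_mvF, pr₂_mvF, rs_rs, rs_rs, sub_self]

variable {U V}

theorem mv_shortExact (hUV : U ⊔ V = ⊤) (F : CohTop.Ab X) [TopCat.Sheaf.IsFlasque F] :
    (ShortComplex.mk (mvF f U V F) (mvG f U V F) (mvF_mvG f U V F)).ShortExact := by
  let S := ShortComplex.mk (mvF f U V F) (mvG f U V F) (mvF_mvG f U V F)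
  let ι := sheafToPresheaf (Opens.grothendieckTopology Y) AddCommGrpCat.{u}
  let U' : ∀ W : Opens Y, ULift.{u} Bool → Opens X := fun W b => bif b.down then onOpen f U W else onOpen f V W
  have hle : ∀ W b, U' W b ≤ (Opens.map f).obj W := fun W ⟨b⟩ => by cases b <;> exact onOpen_le f _ W
  have hcov : ∀ W, (Opens.map f).obj W ≤ iSup (U' W) := fun W x hx => by
    rcases (hUV ▸ trivial : x ∈ U ⊔ V) with h | h
    · exact le_iSup (U' W) ⟨true⟩ ((mem_onOpen f).2 ⟨h, hx⟩)
    · exact le_iSup (U' W) ⟨false⟩ ((mem_onOpen f).2 ⟨h, hx⟩)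
  have hC : ∀ W, onOpen f U W ⊓ onOpen f V W ≤ onOpen f (U ⊓ V) W := fun W x hx =>
    (mem_onOpen f).2 ⟨⟨((mem_onOpen f).1 hx.1).1, ((mem_onOpen f).1 hx.2).1⟩, ((mem_onOpen f).1 hx.1).2⟩
  have hinj : ∀ W, Function.Injective ((mvF f U V F).hom.app (op W)) := fun W s s' h => by
    obtain ⟨r, -, hr⟩ := glue_rs F (U' W) _ (hle W) (hcov W) (fun b => rs F (hle W b) s)
      (fun k l => by rw [rs_rs, rs_rs])
    refine (hr s fun b => rfl).trans (hr s' fun ⟨b⟩ => ?_).symm
    cases b
    · exact ((pr₂_mvF f U V F W s).symm.trans ((congrArg (pr₂ f) h).trans (pr₂_mvF f U V F W s'))).symm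
    · exact ((pr₁_mvF f U V F W s).symm.trans ((congrArg (pr₁ f) h).trans (pr₁_mvF f U V F W s'))).symm
  have hsurj : ∀ W, Function.Surjective ((mvG f U V F).hom.app (op W)) := fun W c => by
    obtain ⟨a, ha⟩ := flasque_rs F (onOpen_mono f (inf_le_left : U ⊓ V ≤ U) W) c
    refine ⟨(biprod.inl : (pushOn f U).obj F ⟶ (pushOn f U).obj F ⊞ (pushOn f V).obj F).hom.app (op W) a, ?_⟩
    rw [mvG_app]
    have h₁ : pr₁ f ((biprod.inl : (pushOn f U).obj F ⟶ (pushOn f U).obj F ⊞ (pushOn f V).obj F).hom.app (op W) a) = a :=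
      app_congr (biprod.inl_fst (X := (pushOn f U).obj F) (Y := (pushOn f V).obj F)) W a
    have h₂ : pr₂ f ((biprod.inl : (pushOn f U).obj F ⟶ (pushOn f U).obj F ⊞ (pushOn f V).obj F).hom.app (op W) a) = 0 :=
      app_congr (biprod.inl_snd (X := (pushOn f U).obj F) (Y := (pushOn f V).obj F)) W a
    rw [h₁, h₂, map_zero, sub_zero, ha]
  have hex : ∀ W : Opens Y, ∀ t : mvMid f U V F W, (mvG f U V F).hom.app (op W) t = 0 →
      ∃ s, (mvF f U V F).hom.app (op W) s = t := fun W t ht => by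
    rw [mvG_app, sub_eq_zero] at ht
    have key : rs F (inf_le_left : onOpen f U W ⊓ onOpen f V W ≤ _) (pr₁ f t) =
        rs F (inf_le_right : onOpen f U W ⊓ onOpen f V W ≤ _) (pr₂ f t) := by
      have := congrArg (rs F (hC W)) ht
      rwa [rs_rs, rs_rs] at this
    obtain ⟨r, hr, -⟩ := glue_rs F (U' W) _ (hle W) (hcov W)
      (fun | ⟨true⟩ => pr₁ f t | ⟨false⟩ => pr₂ f t) (by
        rintro ⟨_ | _⟩ ⟨_ | _⟩
        · rfl
        · have := congrArg (rs F (le_inf inf_le_right inf_le_left :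
            onOpen f V W ⊓ onOpen f U W ≤ onOpen f U W ⊓ onOpen f V W)) key
          rw [rs_rs, rs_rs] at this
          exact this.symm
        · exact key
        · rfl)
    exact ⟨r, mid_ext f U V ((pr₁_mvF f U V F W r).trans (hr ⟨true⟩)) ((pr₂_mvF f U V F W r).trans (hr ⟨false⟩))⟩
  have hmono : Mono (ι.map S.f) :=
    have : ∀ W, Mono ((ι.map S.f).app W) := fun W => (AddCommGrpCat.mono_iff_injective _).2 (hinj W.unop)
    NatTrans.mono_of_mono_app _
  have hepi : Epi (ι.map S.g) :=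
    have : ∀ W, Epi ((ι.map S.g).app W) := fun W => (AddCommGrpCat.epi_iff_surjective _).2 (hsurj W.unop)
    NatTrans.epi_of_epi_app _
  have hP : (S.map ι).Exact := (S.map ι).exact_iff_isZero_homology.2 ((Functor.isZero_iff _).2 fun W =>
    ((((S.map ι).map ((evaluation _ _).obj W)).exact_iff_isZero_homology).1
      ((ShortComplex.ab_exact_iff _).2 fun t ht => hex W.unop t ht)).of_iso
        ((S.map ι).mapHomologyIso ((evaluation _ _).obj W)).symm)
  have : Mono (S.map ι).f := hmono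
  have : Mono S.f := ι.mono_of_mono_map hmono
  have : Epi S.g := ι.epi_of_epi_map hepi
  exact { exact := S.exact_iff_exact_up_to_refinements.2 fun A x₂ hx₂ => ⟨A, 𝟙 A, inferInstance,
            ι.preimage (hP.lift (ι.map x₂) (by
              show ι.map x₂ ≫ ι.map S.g = 0
              rw [← ι.map_comp, hx₂, ι.map_zero])), ι.map_injective (by
              rw [Category.id_comp, ι.map_comp, ι.map_preimage]
              exact (hP.lift_f (ι.map x₂) _).symm)⟩ }

/-- The relative Mayer-Vietoris sequence. -/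
theorem exists_relative_mayerVietoris (hUV : U ⊔ V = ⊤) (F : CohTop.Ab X) :
    ∃ δ : ∀ n : ℕ, (CohCx.RpushOn f (U ⊓ V) n).obj F ⟶ (CohTop.Rpush f (n + 1)).obj F,
      Mono (biprod.lift ((NatTrans.rightDerived (CohCx.pushToRestrPush f U) 0).app F)
        ((NatTrans.rightDerived (CohCx.pushToRestrPush f V) 0).app F)) ∧
      ∀ n : ℕ,
        (ComposableArrows.mk₂
          (biprod.lift ((NatTrans.rightDerived (CohCx.pushToRestrPush f U) n).app F)
            ((NatTrans.rightDerived (CohCx.pushToRestrPush f V) n).app F))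
          (biprod.desc
            ((NatTrans.rightDerived (CohCx.restrPushToRestrPush f (inf_le_left : U ⊓ V ≤ U)) n).app F)
            (-((NatTrans.rightDerived (CohCx.restrPushToRestrPush f (inf_le_right : U ⊓ V ≤ V)) n).app F)))).Exact ∧
        (ComposableArrows.mk₂
          (biprod.desc
            ((NatTrans.rightDerived (CohCx.restrPushToRestrPush f (inf_le_left : U ⊓ V ≤ U)) n).app F)
            (-((NatTrans.rightDerived (CohCx.restrPushToRestrPush f (inf_le_right : U ⊓ V ≤ V)) n).app F)))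
          (δ n)).Exact ∧
        (ComposableArrows.mk₂ (δ n)
          (biprod.lift ((NatTrans.rightDerived (CohCx.pushToRestrPush f U) (n + 1)).app F)
            ((NatTrans.rightDerived (CohCx.pushToRestrPush f V) (n + 1)).app F))).Exact := by
  have := additive_pushOn f U
  have := additive_pushOn f V
  have := additive_pushOn f (U ⊓ V)
  exact exists_mayerVietoris (CohCx.pushToRestrPush f U) (CohCx.pushToRestrPush f V)
    (CohCx.restrPushToRestrPush f (inf_le_left : U ⊓ V ≤ U))
    (CohCx.restrPushToRestrPush f (inf_le_right : U ⊓ V ≤ V)) (fun I => mvF_mvG f U V I)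
    (fun I hI =>
      have := SiteBase.isFlasque_of_injective I
      mv_shortExact f hUV I) F

end

end Groth.Agent.DSites.PB
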