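import Groth.Agent.DSites.PB.Colim
import Groth.Agent.DSites.Desc.ClosedCover

/-!
# Sections of a flasque sheaf on compact subsets
-/

universe u

set_option autoImplicit false
set_option backward.isDefEq.respectTransparency false
set_option backward.isDefEq.respectTransparency.types false

open CategoryTheory CategoryTheory.Limits Opposite TopologicalSpace Topology
open Groth.Agent.CohDesc82
open Groth.Agent.DSites.Desc (secX)

namespace Groth.Agent.DSites.PB

noncomputable section

variable {X Z : TopCat.{u}}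

/-- Global sections of a flasque sheaf map onto sections on a compact separated subset. -/
theorem unit_top_surjective (e : Z ⟶ X) (he : IsInducing e) (hS : IsCompact (Set.range e))
    (hsep : PtSep (Set.range e) (Set.range e)) (F : CohTop.Ab X) [TopCat.Sheaf.IsFlasque F] :
    Function.Surjective (((adjE e).unit.app F).hom.app (op (⊤ : Opens X))).hom := by
  intro t
  let P := CohTop.pull e
  have : PreservesFiniteLimits P := SiteBase.preservesFiniteLimits_pull e
  have : P.Additive := Functor.additive_of_preserves_binary_products P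
  let K : CochainComplex (CohTop.Ab X) ℤ := (CochainComplex.singleFunctor _ 0).obj F
  let R := injectiveResolution (P.obj F)
  let L : CochainComplex (CohTop.Ab Z) ℤ := R.cochainComplex
  let g : (P.mapHomologicalComplex (ComplexShape.up ℤ)).obj K ⟶ L :=
    (HomologicalComplex.singleMapHomologicalComplex P (ComplexShape.up ℤ) 0).hom.app F ≫ R.ι'
  have : QuasiIso g := inferInstance
  have hK : ∀ n, TopCat.Sheaf.IsFlasque (K.X n) := fun n => by
    rcases eq_or_ne n 0 with rfl | hn
    · refine ⟨fun {U V} i => ?_⟩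
      have hnat := ((HomologicalComplex.singleObjXSelf (ComplexShape.up ℤ) 0 F).hom.hom.naturality i)
      have : Epi (F.obj.map i) := TopCat.Presheaf.IsFlasque.epi i
      let s := (sheafToPresheaf _ _).mapIso (HomologicalComplex.singleObjXSelf (ComplexShape.up ℤ) 0 F)
      have : (K.X 0).obj.map i = (s.app U).hom ≫ F.obj.map i ≫ (s.app V).inv := by
        rw [← Category.assoc]
        exact (Iso.eq_comp_inv _).2 hnat
      rw [this]
      infer_instance
    · exact SiteBase.isFlasque_of_isZero _ (HomologicalComplex.isZero_single_obj_X _ _ _ _ hn)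
  have hL : ∀ n, TopCat.Sheaf.IsFlasque (L.X n) := fun n => SiteBase.isFlasque_of_injective _
  let M : CochainComplex (CohTop.Ab X) ℤ := ((CohTop.push e).mapHomologicalComplex (ComplexShape.up ℤ)).obj L
  have : M.IsStrictlyGE 0 := (CochainComplex.isStrictlyGE_iff _ _).2 fun m hm =>
    (CohTop.push e).map_isZero (L.isZero_of_isStrictlyGE 0 m hm)
  have hq := quasiIso_gS (Set.range e) (adjMap e g) 0 hK (fun n => ⟨fun {U V} i => by
      have := hL n
      exact TopCat.Presheaf.IsFlasque.epi (F := (L.X n).obj) ((Opens.map e).op.map i)⟩) hS hsep fun x hx => by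
    obtain ⟨z, rfl⟩ := hx
    exact quasiIso_adjMap e he g z
  let u : (L.X 0).obj.obj (op ⊤) := (g.f 0).hom.app (op ⊤)
    ((P.map (HomologicalComplex.singleObjXSelf (ComplexShape.up ℤ) 0 F).inv).hom.app (op ⊤) t)
  have hinj : Function.Injective ((g.f 0).hom.app (op (⊤ : Opens Z))).hom := by
    have : Mono (g.f 0) := by
      have : Mono (R.ι'.f 0) := by
        rw [R.ι'_f_zero]
        infer_instance
      have : IsIso (((HomologicalComplex.singleMapHomologicalComplex P (ComplexShape.up ℤ) 0).hom.app F).f 0) :=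
        inferInstance
      exact mono_comp _ _
    exact (AddCommGrpCat.mono_iff_injective _).1 ((secX (⊤ : Opens Z)).map_mono (g.f 0))
  have hu : (L.d 0 1).hom.app (op ⊤) u = 0 := by
    have h1 : g.f 0 ≫ L.d 0 1 = 0 := by
      rw [g.comm 0 1, show ((P.mapHomologicalComplex (ComplexShape.up ℤ)).obj K).d 0 1 = P.map (K.d 0 1) from rfl,
        show K.d 0 1 = 0 from HomologicalComplex.single_obj_d _ _ _ _ _, P.map_zero, zero_comp]
    exact ConcreteCategory.congr_hom (congrArg (fun q => q.hom.app (op (⊤ : Opens Z))) h1) _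
  let τ := (topGermS e (S := Set.range e))
  have hd0 : ((gsC (Set.range e)).obj M).d 0 1 (τ.app (L.X 0) u) = 0 :=
    (ConcreteCategory.congr_hom (τ.naturality (L.d 0 1)) u).symm.trans ((congrArg (τ.app _) hu).trans (map_zero _))
  obtain ⟨y, w, -, hyw⟩ := ((quasiIsoAt_iff_ab _ (show (-1 : ℤ) + 1 = 0 by simp) (show (0 : ℤ) + 1 = 1 by simp)).1
    (hq.quasiIsoAt 0)).1 (τ.app (L.X 0) u) hd0
  have : ((gsC (Set.range e)).obj M).IsStrictlyGE 0 := (CochainComplex.isStrictlyGE_iff _ _).2 fun m hm =>
    (gS (Set.range e)).map_isZero (M.isZero_of_isStrictlyGE 0 m hm)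
  rw [eq_zero_of_lt _ (show (-1 : ℤ) < 0 by omega) w, map_zero, sub_eq_zero] at hyw
  obtain ⟨V, -, hV, σ, hσ⟩ := exists_grS (Set.range e) (K.X 0) (U := ⊤) (fun _ _ => trivial) y
  have := hK 0
  obtain ⟨σ', hσ'⟩ := flasque_rs (K.X 0) (le_top : V ≤ ⊤) σ
  refine ⟨(HomologicalComplex.singleObjXSelf (ComplexShape.up ℤ) 0 F).hom.hom.app (op ⊤) σ', ?_⟩
  have key : ((adjMap e g).f 0).hom.app (op ⊤) σ' = u := by
    refine ((ConcreteCategory.isIso_iff_bijective (τ.app (L.X 0))).1
      (have := isIso_topGermS e (S := Set.range e) le_rfl; inferInstance)).1 ?_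
    refine Eq.trans ?_ hyw
    rw [← hσ, ← hσ', grS_rs]
    exact grS_natural (Set.range e) ((adjMap e g).f 0) (U := ⊤) (fun _ _ => trivial) σ'
  let iv := ((P.map (HomologicalComplex.singleObjXSelf (ComplexShape.up ℤ) 0 F).inv).hom.app (op (⊤ : Opens Z))).hom
  have hiv : Function.Injective iv :=
    ((ConcreteCategory.isIso_iff_bijective _).1 (inferInstance : IsIso ((secX (⊤ : Opens Z)).map
      (P.map (HomologicalComplex.singleObjXSelf (ComplexShape.up ℤ) 0 F).inv)))).1
  refine hiv (hinj ?_)
  refine Eq.trans ?_ key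
  let i := HomologicalComplex.singleObjXSelf (ComplexShape.up ℤ) 0 F
  have h2 : (adjMap e g).f 0 = i.hom ≫ (adjE e).unit.app F ≫ (CohTop.push e).map (P.map i.inv ≫ g.f 0) := by
    show (adjE e).homEquiv _ _ (g.f 0) = _
    rw [Adjunction.homEquiv_unit]
    have := (adjE e).unit.naturality i.inv
    rw [Functor.comp_map] at this
    rw [Functor.map_comp, ← reassoc_of% this]
    exact (Iso.hom_inv_id_assoc i _).symm
  rw [h2]
  rfl

/-- Inverse images of flasque sheaves on separated compact subsets are soft. -/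
theorem pull_sections_surjective {A B : TopCat.{u}} (k : B ⟶ X) (a : A ⟶ B) (he : IsInducing (a ≫ k))
    (hS : IsCompact (Set.range (a ≫ k))) (hsep : PtSep (Set.range (a ≫ k)) (Set.range (a ≫ k)))
    (F : CohTop.Ab X) [TopCat.Sheaf.IsFlasque F] :
    Function.Surjective (((adjE a).unit.app ((CohTop.pull k).obj F)).hom.app (op (⊤ : Opens B))).hom := by
  intro t
  let υ := ((adjE k).comp (adjE a)).leftAdjointUniq (adjE (a ≫ k))
  obtain ⟨σ, hσ⟩ := unit_top_surjective (a ≫ k) he hS hsep F ((υ.hom.app F).hom.app (op ⊤) t)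
  refine ⟨((adjE k).unit.app F).hom.app (op ⊤) σ, ?_⟩
  have h := Adjunction.unit_leftAdjointUniq_hom_app ((adjE k).comp (adjE a)) (adjE (a ≫ k)) F
  refine ((ConcreteCategory.isIso_iff_bijective ((secX (⊤ : Opens A)).map (υ.hom.app F))).1 inferInstance).1 ?_
  refine Eq.trans ?_ ((ConcreteCategory.congr_hom (congrArg (fun q => q.hom.app (op (⊤ : Opens X))) h) σ).trans hσ)
  rw [Adjunction.comp_unit_app]
  rfl

end

end Groth.Agent.DSites.PB
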